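import Mathlib
import Groth.Agent.Lib.Helper4.FTDim2
import Groth.Agent.Lib.Helper4.Noether1
import Groth.Agent.Lib.Helper7.MaxPt

/-!
# helper7: dimension of a scheme of finite type over a field via maps of dense opens to affine space
(S3430)

Uses Helper4's residual transcendence degree `tr`, its computation on affine spaces, the dimension
theory of schemes of finite type over a field (`FTDim1`) and Noether normalization (`Noether1`).
-/

set_option linter.style.haveILetI false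
set_option linter.unusedVariables false
set_option linter.unusedSectionVars false
set_option autoImplicit false
set_option backward.isDefEq.respectTransparency.types false
set_option synthInstance.maxHeartbeats 400000
set_option maxHeartbeats 1600000

universe u

open CategoryTheory CategoryTheory.Limits AlgebraicGeometry TopologicalSpace
open Groth.Agent.Lib.Helper4.FibDim1 Groth.Agent.Lib.Helper4.Aff2 Groth.Agent.Lib.Helper4.Chev8
open Groth.Agent.Lib.Helper4.JacDim2 Groth.Agent.Lib.Helper4.FTDim1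
open Groth.Agent.Helper4.NN

namespace Groth.Agent.Helper7.NNDim

section Aff

variable (k : Type u) [Field k] (n : ℕ)

/-- affine `n`-space over `k`, indexed in the universe of `k` -/
noncomputable abbrev An : Scheme.{u} := 𝔸(ULift.{u} (Fin n); Spec (CommRingCat.of k))

/-- its structure morphism -/
noncomputable abbrev pr : An k n ⟶ Spec (CommRingCat.of k) :=
  𝔸(ULift.{u} (Fin n); Spec (CommRingCat.of k)) ↘ Spec (CommRingCat.of k)

theorem card_ulift_fin : Cardinal.mk (ULift.{u} (Fin n)) = (n : Cardinal.{u}) := by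
  simp

theorem tr_pr_le (ζ : ↥(An k n)) : tr (pr k n) ζ ≤ n := by
  have h := (tr_affineSpace (ULift.{u} (Fin n)) (Spec (CommRingCat.of k)) ζ).1
  rw [card_ulift_fin] at h
  exact_mod_cast h

theorem exists_tr_pr_eq : ∃ ζ : ↥(An k n), tr (pr k n) ζ = n := by
  obtain ⟨ζ₀, -⟩ := (pr k n).surjective (⟨⊥, Ideal.isPrime_bot⟩ : PrimeSpectrum k)
  obtain ⟨ζ, -, hmax⟩ := Groth.Agent.Helper7.MaxPt.exists_maximal_generization ζ₀
  have h := tr_eq_of_isMax_affineSpace (ULift.{u} (Fin n)) (Spec (CommRingCat.of k)) ζ hmax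
  rw [card_ulift_fin] at h
  exact ⟨ζ, by exact_mod_cast h⟩

end Aff

section Converse

variable {k : Type u} [Field k] (n : ℕ) {X : Scheme.{u}} (f : X ⟶ Spec (CommRingCat.of k))
  [LocallyOfFiniteType f]

theorem le_dim_of_surjective (U : X.Opens) (g : (U : Scheme.{u}) ⟶ An k n)
    (hg : g ≫ pr k n = U.ι ≫ f) (hs : Function.Surjective g.base) :
    (n : WithBot ℕ∞) ≤ topologicalKrullDim ↥X := by
  obtain ⟨ζ, hζ⟩ := exists_tr_pr_eq k n
  obtain ⟨u, hu⟩ := hs ζ
  haveI : LocallyOfFiniteType (g ≫ pr k n) := by rw [hg]; infer_instance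
  haveI : LocallyOfFiniteType g := locallyOfFiniteType_of_comp g (pr k n)
  have h1 : tr (g ≫ pr k n) u = tr (pr k n) (g.base u) + tr g u :=
    Groth.Agent.Lib.Helper4.JacDim1.tr_comp g (pr k n) u
  have h2 : tr (g ≫ pr k n) u = tr (U.ι ≫ f) u := tr_congr_hom _ _ hg u
  have h3 : tr (U.ι ≫ f) u = tr f (U.ι.base u) := tr_restrict f U u
  have h4 := tr_le_dim k f (U.ι.base u)
  rw [hu, hζ] at h1
  have h6 : n ≤ tr f (U.ι.base u) := by omega
  exact le_trans (by exact_mod_cast h6) h4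

theorem dim_le_of_finite (U : X.Opens) (hU : Dense (U : Set X)) (g : (U : Scheme.{u}) ⟶ An k n)
    (hg : g ≫ pr k n = U.ι ≫ f) [IsFinite g] :
    topologicalKrullDim ↥X ≤ (n : WithBot ℕ∞) := by
  haveI : IsLocallyNoetherian X := LocallyOfFiniteType.isLocallyNoetherian f
  apply dim_le_of_forall_tr k f
  intro x
  obtain ⟨ξ, hξx, hmax⟩ := Groth.Agent.Helper7.MaxPt.exists_maximal_generization x
  have hξU : ξ ∈ (U : Set X) := mem_of_dense_of_isMax X ξ hmax U U.2 hU
  have h0 := tr_le_of_specializes_of_field k f ξ x hξx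
  let u : ↥(U : Scheme.{u}) := ⟨ξ, hξU⟩
  haveI : LocallyOfFiniteType (g ≫ pr k n) := by rw [hg]; infer_instance
  have h1 : tr (g ≫ pr k n) u = tr (pr k n) (g.base u) + tr g u :=
    Groth.Agent.Lib.Helper4.JacDim1.tr_comp g (pr k n) u
  have h2 : tr (g ≫ pr k n) u = tr (U.ι ≫ f) u := tr_congr_hom _ _ hg u
  have h3 : tr (U.ι ≫ f) u = tr f ξ := tr_restrict f U u
  have h4 : tr g u = 0 := tr_eq_zero_of_locallyQuasiFinite g u
  have h5 := tr_pr_le k n (g.base u)
  have h6 : tr f x ≤ n := by omega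
  exact_mod_cast h6

/-- a dense open subscheme has the same dimension -/
theorem dim_dense_open {k : Type u} [Field k] {X : Scheme.{u}} (f : X ⟶ Spec (CommRingCat.of k))
    [LocallyOfFiniteType f] (U : X.Opens) (hU : Dense (U : Set X)) :
    topologicalKrullDim ↥(U : Scheme.{u}) = topologicalKrullDim ↥X := by
  haveI : IsLocallyNoetherian X := LocallyOfFiniteType.isLocallyNoetherian f
  apply le_antisymm
  · apply dim_le_of_forall_tr k (U.ι ≫ f)
    intro u
    rw [tr_restrict f U u]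
    exact tr_le_dim k f _
  · apply dim_le_of_forall_tr k f
    intro x
    obtain ⟨ξ, hξx, hmax⟩ := Groth.Agent.Helper7.MaxPt.exists_maximal_generization x
    have hξU : ξ ∈ (U : Set X) := mem_of_dense_of_isMax X ξ hmax U U.2 hU
    have h0 := tr_le_of_specializes_of_field k f ξ x hξx
    let u : ↥(U : Scheme.{u}) := ⟨ξ, hξU⟩
    have h3 : tr (U.ι ≫ f) u = tr f ξ := tr_restrict f U u
    have h4 := tr_le_dim k (U.ι ≫ f) u
    rw [h3] at h4
    refine le_trans ?_ h4
    exact_mod_cast h0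

end Converse

section DenseAffine

/-- a Noetherian scheme has a dense affine open subscheme -/
theorem exists_dense_affineOpen (X : Scheme.{u}) [NoetherianSpace ↥X] :
    ∃ U : X.Opens, IsAffineOpen U ∧ Dense (U : Set X) := by
  classical
  have hfin : (irreducibleComponents ↥X).Finite := NoetherianSpace.finite_irreducibleComponents
  haveI : Finite ↥(irreducibleComponents ↥X) := hfin.to_subtype
  have hgen : ∀ Z : ↥(irreducibleComponents ↥X), ∃ ξ : X, closure {ξ} = (Z : Set X) := fun Z => by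
    obtain ⟨ξ, hξ⟩ := QuasiSober.sober (Z.2.1) (isClosed_of_mem_irreducibleComponents _ Z.2)
    exact ⟨ξ, hξ.def⟩
  choose ξ hξ using hgen
  let W : ↥(irreducibleComponents ↥X) → Set X := fun Z =>
    (⋃ Z' ∈ {Z' : ↥(irreducibleComponents ↥X) | Z' ≠ Z}, (Z' : Set X))ᶜ
  have hWopen : ∀ Z, IsOpen (W Z) := fun Z =>
    (Set.Finite.isClosed_biUnion (Set.toFinite _)
      (fun Z' _ => isClosed_of_mem_irreducibleComponents _ Z'.2)).isOpen_compl
  have hξW : ∀ Z, ξ Z ∈ W Z := fun Z => by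
    intro hmem
    obtain ⟨Z', hne, hmem'⟩ := Set.mem_iUnion₂.mp hmem
    have hsub : (Z : Set X) ⊆ (Z' : Set X) := by
      rw [← hξ Z]
      exact closure_minimal (Set.singleton_subset_iff.mpr hmem')
        (isClosed_of_mem_irreducibleComponents _ Z'.2)
    have heq : (Z : Set X) = (Z' : Set X) := le_antisymm hsub (Z.2.2 Z'.2.1 hsub)
    exact hne (Subtype.ext heq.symm)
  have hV : ∀ Z, ∃ V : X.Opens, IsAffineOpen V ∧ ξ Z ∈ V ∧ (V : Set X) ⊆ W Z := fun Z => by
    obtain ⟨V, hV, hξV, hVW⟩ := exists_isAffineOpen_mem_and_subset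
      (U := (⟨W Z, hWopen Z⟩ : X.Opens)) (x := ξ Z) (hξW Z)
    exact ⟨V, hV, hξV, hVW⟩
  choose V hVaff hξV hVW using hV
  have hkey : ∀ (Z : ↥(irreducibleComponents ↥X)) (x : X), x ∈ (V Z : Set X) →
      (⟨irreducibleComponent x, irreducibleComponent_mem_irreducibleComponents x⟩ :
        ↥(irreducibleComponents ↥X)) = Z := by
    intro Z x hx
    by_contra h
    exact hVW Z hx (Set.mem_biUnion (show _ ∈ {Z' : ↥(irreducibleComponents ↥X) | Z' ≠ Z} from h)
      mem_irreducibleComponent)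
  have hdisj : Pairwise (Function.onFun Disjoint V) := by
    intro Z Z' hne
    show Disjoint (V Z) (V Z')
    rw [← TopologicalSpace.Opens.coe_disjoint, Set.disjoint_left]
    intro x hx hx'
    exact hne ((hkey Z x hx).symm.trans (hkey Z' x hx'))
  refine ⟨⨆ Z, V Z, IsAffineOpen.iSup_of_disjoint hVaff hdisj, ?_⟩
  intro x
  let Z : ↥(irreducibleComponents ↥X) :=
    ⟨irreducibleComponent x, irreducibleComponent_mem_irreducibleComponents x⟩
  have h1 : x ∈ closure {ξ Z} := by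
    rw [hξ Z]
    exact mem_irreducibleComponent
  refine closure_mono ?_ h1
  rw [Set.singleton_subset_iff]
  exact TopologicalSpace.Opens.mem_iSup.mpr ⟨Z, hξV Z⟩

/-- the dimension of an affine scheme is the Krull dimension of its ring of global sections -/
theorem dim_eq_ringKrullDim (Y : Scheme.{u}) [IsAffine Y] :
    topologicalKrullDim ↥Y = ringKrullDim Γ(Y, ⊤) := by
  have h1 : topologicalKrullDim ↥Y = topologicalKrullDim ↥(Spec Γ(Y, ⊤)) :=
    IsHomeomorph.topologicalKrullDim_eq _ (Y.isoSpec.hom.homeomorph).isHomeomorph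
  exact h1.trans (PrimeSpectrum.topologicalKrullDim_eq_ringKrullDim _)

end DenseAffine

section Alg

variable (k : Type u) [Field k] (B : Type u) [CommRing B] [Algebra k B] [Algebra.FiniteType k B]
  [Nontrivial B] (n : ℕ)

theorem exists_nat_dim (k : Type u) [Field k] (B : Type u) [CommRing B] [Algebra k B]
    [Algebra.FiniteType k B] [Nontrivial B] : ∃ d : ℕ, ringKrullDim B = (d : WithBot ℕ∞) := by
  obtain ⟨s, g, hinj, hfin⟩ := exists_finite_inj_algHom_of_fg k B
  exact ⟨s, by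
    rw [ringKrullDim_eq_of_finite_injective g.toRingHom hfin hinj, ringKrullDim_mvPolynomial_fin]⟩

theorem exists_algHom_surj (d : ℕ) (hd : ringKrullDim B = (d : WithBot ℕ∞)) (hnd : n ≤ d) :
    ∃ ψ : MvPolynomial (ULift.{u} (Fin n)) k →ₐ[k] B,
      Function.Surjective (PrimeSpectrum.comap ψ.toRingHom) := by
  obtain ⟨φ, hfin, hinj⟩ := (ringKrullDim_eq_iff_exists_finite_injective k B d).mp hd
  let θ : ULift.{u} (Fin n) → Fin d := fun i => Fin.castLE hnd i.down
  have hθ : Function.Injective θ := fun a b h =>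
    ULift.down_injective (Fin.castLE_injective hnd h)
  refine ⟨φ.comp (MvPolynomial.rename θ), ?_⟩
  have h1 : Function.Surjective (PrimeSpectrum.comap φ.toRingHom) :=
    RingHom.IsIntegral.comap_surjective hfin.to_isIntegral hinj
  have h2 : Function.Surjective
      (PrimeSpectrum.comap (MvPolynomial.rename θ : MvPolynomial (ULift.{u} (Fin n)) k →ₐ[k]
        MvPolynomial (Fin d) k).toRingHom) := by
    intro P
    refine ⟨PrimeSpectrum.comap (MvPolynomial.killCompl hθ : MvPolynomial (Fin d) k →ₐ[k]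
        MvPolynomial (ULift.{u} (Fin n)) k).toRingHom P, ?_⟩
    refine PrimeSpectrum.ext (Ideal.ext fun x => ?_)
    show MvPolynomial.killCompl hθ (MvPolynomial.rename θ x) ∈ P.asIdeal ↔ x ∈ P.asIdeal
    rw [MvPolynomial.killCompl_rename_app]
  intro P
  obtain ⟨P', hP'⟩ := h2 P
  obtain ⟨Q, hQ⟩ := h1 P'
  refine ⟨Q, ?_⟩
  rw [← hP', ← hQ]
  exact PrimeSpectrum.ext (Ideal.ext fun x => Iff.rfl)

theorem exists_algHom_finite (d : ℕ) (hd : ringKrullDim B = (d : WithBot ℕ∞)) (hdn : d ≤ n) :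
    ∃ ψ : MvPolynomial (ULift.{u} (Fin n)) k →ₐ[k] B, ψ.toRingHom.Finite := by
  obtain ⟨φ, hfin, hinj⟩ := (ringKrullDim_eq_iff_exists_finite_injective k B d).mp hd
  let θ : Fin d → ULift.{u} (Fin n) := fun j => ULift.up (Fin.castLE hdn j)
  have hθ : Function.Injective θ := fun a b h =>
    Fin.castLE_injective hdn (ULift.up_injective h)
  refine ⟨φ.comp (MvPolynomial.killCompl hθ), ?_⟩
  have hs : Function.Surjective (MvPolynomial.killCompl hθ : MvPolynomial (ULift.{u} (Fin n)) k →ₐ[k]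
      MvPolynomial (Fin d) k).toRingHom :=
    fun p => ⟨MvPolynomial.rename θ p, MvPolynomial.killCompl_rename_app hθ p⟩
  exact RingHom.Finite.comp hfin (RingHom.Finite.of_surjective _ hs)

theorem exists_algHom_finite_inj (hd : ringKrullDim B = (n : WithBot ℕ∞)) :
    ∃ ψ : MvPolynomial (ULift.{u} (Fin n)) k →ₐ[k] B,
      ψ.toRingHom.Finite ∧ Function.Injective ψ := by
  obtain ⟨φ, hfin, hinj⟩ := (ringKrullDim_eq_iff_exists_finite_injective k B n).mp hd
  let ρ : MvPolynomial (ULift.{u} (Fin n)) k ≃ₐ[k] MvPolynomial (Fin n) k :=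
    MvPolynomial.renameEquiv k Equiv.ulift
  refine ⟨φ.comp ρ.toAlgHom, ?_, hinj.comp ρ.injective⟩
  have hs : Function.Surjective ρ.toAlgHom.toRingHom := ρ.surjective
  exact RingHom.Finite.comp hfin (RingHom.Finite.of_surjective _ hs)

end Alg

section Construct

variable {k : Type u} [Field k] (n : ℕ)

theorem exists_alg (Y : Scheme.{u}) [IsAffine Y] (p : Y ⟶ Spec (CommRingCat.of k))
    [LocallyOfFiniteType p] :
    ∃ alg : Algebra k Γ(Y, ⊤), letI := alg
      Algebra.FiniteType k Γ(Y, ⊤) ∧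
      ∀ ψ : MvPolynomial (ULift.{u} (Fin n)) k →ₐ[k] Γ(Y, ⊤),
        ∃ g : Y ⟶ An k n, g ≫ pr k n = p ∧ (ψ.toRingHom.Finite → IsFinite g) ∧
          (Function.Surjective (PrimeSpectrum.comap ψ.toRingHom) →
            Function.Surjective g.base) := by
  obtain ⟨φ, hφ⟩ := Spec.map_surjective (Y.isoSpec.inv ≫ p)
  have hp : p = Y.isoSpec.hom ≫ Spec.map φ := by rw [hφ, Iso.hom_inv_id_assoc]
  letI alg : Algebra k Γ(Y, ⊤) := φ.hom.toAlgebra
  refine ⟨alg, ?_, ?_⟩
  · have h1 : LocallyOfFiniteType (Spec.map φ) := by rw [hφ]; infer_instance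
    have h2 : φ.hom.FiniteType := (HasRingHomProperty.Spec_iff (P := @LocallyOfFiniteType)).mp h1
    exact h2
  · intro ψ
    let ψc : CommRingCat.of (MvPolynomial (ULift.{u} (Fin n)) k) ⟶ Γ(Y, ⊤) :=
      CommRingCat.ofHom ψ.toRingHom
    let e := AffineSpace.SpecIso (ULift.{u} (Fin n)) (CommRingCat.of k)
    refine ⟨Y.isoSpec.hom ≫ Spec.map ψc ≫ e.inv, ?_, ?_, ?_⟩
    · rw [Category.assoc, Category.assoc, AffineSpace.SpecIso_inv_over, ← Spec.map_comp, hp]
      congr 2
      ext x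
      exact ψ.commutes x
    · intro hfin
      haveI : IsFinite (Spec.map ψc) := (IsFinite.SpecMap_iff ψc).mpr hfin
      infer_instance
    · intro hsurj
      haveI : Surjective (Spec.map ψc) := ⟨hsurj⟩
      exact (Y.isoSpec.hom ≫ Spec.map ψc ≫ e.inv).surjective

end Construct

section Main

variable (k : Type u) [Field k] {X : Scheme.{u}} (f : X ⟶ Spec (CommRingCat.of k))
  [LocallyOfFiniteType f] [QuasiCompact f] (n : ℕ)

theorem forward_ge (hn : (n : WithBot ℕ∞) ≤ topologicalKrullDim ↥X) :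
    ∃ (U : X.Opens) (g : (U : Scheme.{u}) ⟶ An k n),
      Dense (U : Set X) ∧ g ≫ pr k n = U.ι ≫ f ∧ Function.Surjective g.base := by
  haveI : NoetherianSpace ↥X := noetherianSpace_of_field k f
  obtain ⟨U, hUaff, hUd⟩ := exists_dense_affineOpen X
  haveI : IsAffine (U : Scheme.{u}) := hUaff
  obtain ⟨alg, hft, hψ⟩ := exists_alg (k := k) n (U : Scheme.{u}) (U.ι ≫ f)
  letI := alg
  haveI := hft
  have hdim : ringKrullDim Γ((U : Scheme.{u}), ⊤) = topologicalKrullDim ↥X := by
    rw [← dim_eq_ringKrullDim, dim_dense_open f U hUd]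
  haveI : Nontrivial Γ((U : Scheme.{u}), ⊤) := by
    by_contra h
    rw [not_nontrivial_iff_subsingleton] at h
    rw [ringKrullDim_eq_bot_of_subsingleton] at hdim
    rw [← hdim] at hn
    exact absurd hn (by simp)
  obtain ⟨d, hd⟩ := exists_nat_dim k Γ((U : Scheme.{u}), ⊤)
  have hnd : n ≤ d := by
    rw [← hdim, hd] at hn
    exact_mod_cast hn
  obtain ⟨ψ, hψs⟩ := exists_algHom_surj k Γ((U : Scheme.{u}), ⊤) n d hd hnd
  obtain ⟨g, hg, -, hgs⟩ := hψ ψ
  exact ⟨U, g, hUd, hg, hgs hψs⟩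

theorem forward_le (hn : topologicalKrullDim ↥X ≤ (n : WithBot ℕ∞)) :
    ∃ (U : X.Opens) (g : (U : Scheme.{u}) ⟶ An k n),
      Dense (U : Set X) ∧ g ≫ pr k n = U.ι ≫ f ∧ IsFinite g := by
  haveI : NoetherianSpace ↥X := noetherianSpace_of_field k f
  obtain ⟨U, hUaff, hUd⟩ := exists_dense_affineOpen X
  haveI : IsAffine (U : Scheme.{u}) := hUaff
  obtain ⟨alg, hft, hψ⟩ := exists_alg (k := k) n (U : Scheme.{u}) (U.ι ≫ f)
  letI := alg
  haveI := hft
  have hdim : ringKrullDim Γ((U : Scheme.{u}), ⊤) = topologicalKrullDim ↥X := by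
    rw [← dim_eq_ringKrullDim, dim_dense_open f U hUd]
  rcases subsingleton_or_nontrivial Γ((U : Scheme.{u}), ⊤) with hsub | hnt
  · let ψ : MvPolynomial (ULift.{u} (Fin n)) k →ₐ[k] Γ((U : Scheme.{u}), ⊤) :=
      MvPolynomial.aeval (fun _ => 0)
    obtain ⟨g, hg, hgf, -⟩ := hψ ψ
    refine ⟨U, g, hUd, hg, hgf ?_⟩
    letI := ψ.toRingHom.toAlgebra
    haveI : Finite Γ((U : Scheme.{u}), ⊤) := Finite.of_subsingleton
    exact (Module.Finite.of_finite : Module.Finite (MvPolynomial (ULift.{u} (Fin n)) k)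
      Γ((U : Scheme.{u}), ⊤))
  · obtain ⟨d, hd⟩ := exists_nat_dim k Γ((U : Scheme.{u}), ⊤)
    have hdn : d ≤ n := by
      rw [← hdim, hd] at hn
      exact_mod_cast hn
    obtain ⟨ψ, hψf⟩ := exists_algHom_finite k Γ((U : Scheme.{u}), ⊤) n d hd hdn
    obtain ⟨g, hg, hgf, -⟩ := hψ ψ
    exact ⟨U, g, hUd, hg, hgf hψf⟩

theorem forward_eq (hn : topologicalKrullDim ↥X = (n : WithBot ℕ∞)) :
    ∃ (U : X.Opens) (g : (U : Scheme.{u}) ⟶ An k n),
      Dense (U : Set X) ∧ g ≫ pr k n = U.ι ≫ f ∧ IsFinite g ∧ Function.Surjective g.base := by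
  haveI : NoetherianSpace ↥X := noetherianSpace_of_field k f
  obtain ⟨U, hUaff, hUd⟩ := exists_dense_affineOpen X
  haveI : IsAffine (U : Scheme.{u}) := hUaff
  obtain ⟨alg, hft, hψ⟩ := exists_alg (k := k) n (U : Scheme.{u}) (U.ι ≫ f)
  letI := alg
  haveI := hft
  have hdim : ringKrullDim Γ((U : Scheme.{u}), ⊤) = (n : WithBot ℕ∞) := by
    rw [← dim_eq_ringKrullDim, dim_dense_open f U hUd, hn]
  haveI : Nontrivial Γ((U : Scheme.{u}), ⊤) := by
    by_contra h
    rw [not_nontrivial_iff_subsingleton] at h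
    rw [ringKrullDim_eq_bot_of_subsingleton] at hdim
    exact absurd hdim (by simp)
  obtain ⟨ψ, hψf, hψi⟩ := exists_algHom_finite_inj k Γ((U : Scheme.{u}), ⊤) n hdim
  obtain ⟨g, hg, hgf, hgs⟩ := hψ ψ
  exact ⟨U, g, hUd, hg, hgf hψf,
    hgs (RingHom.IsIntegral.comap_surjective hψf.to_isIntegral hψi)⟩

theorem main :
    ((n : WithBot ℕ∞) ≤ topologicalKrullDim (X : Type u) ↔
      ∃ (U : X.Opens) (g : (U : Scheme.{u}) ⟶ 𝔸(ULift.{u} (Fin n); Spec (CommRingCat.of k))),
        Dense (U : Set X) ∧ g ≫ (𝔸(ULift.{u} (Fin n); Spec (CommRingCat.of k)) ↘ Spec (CommRingCat.of k)) = U.ι ≫ f ∧ Function.Surjective g.base) ∧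
    (topologicalKrullDim (X : Type u) ≤ n ↔
      ∃ (U : X.Opens) (g : (U : Scheme.{u}) ⟶ 𝔸(ULift.{u} (Fin n); Spec (CommRingCat.of k))),
        Dense (U : Set X) ∧ g ≫ (𝔸(ULift.{u} (Fin n); Spec (CommRingCat.of k)) ↘ Spec (CommRingCat.of k)) = U.ι ≫ f ∧ IsFinite g) ∧
    (topologicalKrullDim (X : Type u) = n ↔
      ∃ (U : X.Opens) (g : (U : Scheme.{u}) ⟶ 𝔸(ULift.{u} (Fin n); Spec (CommRingCat.of k))),
        Dense (U : Set X) ∧ g ≫ (𝔸(ULift.{u} (Fin n); Spec (CommRingCat.of k)) ↘ Spec (CommRingCat.of k)) = U.ι ≫ f ∧ IsFinite g ∧ Function.Surjective g.base) := by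
  refine ⟨⟨forward_ge k f n, ?_⟩, ⟨forward_le k f n, ?_⟩, ⟨forward_eq k f n, ?_⟩⟩
  · rintro ⟨U, g, -, hg, hs⟩
    exact le_dim_of_surjective n f U g hg hs
  · rintro ⟨U, g, hU, hg, hfin⟩
    haveI := hfin
    exact dim_le_of_finite n f U hU g hg
  · rintro ⟨U, g, hU, hg, hfin, hs⟩
    haveI := hfin
    exact le_antisymm (dim_le_of_finite n f U hU g hg) (le_dim_of_surjective n f U g hg hs)

end Main

end Groth.Agent.Helper7.NNDim
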